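import Groth.Agent.DomDVR.KrullAkizuki
import Mathlib

/-!
# Noetherianity of integral closures in reduced base changes of one-dimensional rings
-/

set_option autoImplicit false
set_option linter.style.haveILetI false
set_option backward.isDefEq.respectTransparency false

universe u

open TensorProduct nonZeroDivisors

namespace Groth.Agent.IntClNoethLib

/-- A ring injecting compatibly into finitely many Noetherian quotients is Noetherian. -/
theorem isNoetherianRing_of_finite_quotients {R : Type u} [CommRing R] {ι : Type*} [Finite ι] (I : ι → Ideal R)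
    (hI : ∀ x : R, (∀ i, x ∈ I i) → x = 0) (hN : ∀ i, IsNoetherianRing (R ⧸ I i)) : IsNoetherianRing R := by
  haveI : ∀ i, IsNoetherian R (R ⧸ I i) := fun i => by
    haveI := hN i
    rw [isNoetherian_def]
    intro N
    let N' : Submodule (R ⧸ I i) (R ⧸ I i) :=
      { N.toAddSubmonoid with
        smul_mem' := fun c x hx => by
          obtain ⟨c, rfl⟩ := Ideal.Quotient.mk_surjective c
          exact N.smul_mem c hx }
    have he : N'.restrictScalars R = N := rfl
    rw [← he]
    exact Submodule.FG.restrictScalars_of_surjective (IsNoetherian.noetherian N') Ideal.Quotient.mk_surjective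
  let f : R →ₗ[R] ∀ i, R ⧸ I i := LinearMap.pi fun i => (I i).mkQ
  refine (isNoetherianRing_iff).2 (isNoetherian_of_injective f ?_)
  rw [← LinearMap.ker_eq_bot, LinearMap.ker_eq_bot']
  intro x hx
  exact hI x fun i => (Submodule.Quotient.mk_eq_zero _).1 (congrFun hx i)

/-- The integral closure of `B` in a reduced ring of fractions of a Noetherian subring integral over `B`. -/
theorem isNoetherianRing_integralClosure {B L' : Type u} [CommRing B] [IsDomain B] [Ring.DimensionLEOne B]
    [CommRing L'] [IsReduced L'] [Algebra B L'] (hunit : ∀ s : B, s ≠ 0 → IsUnit (algebraMap B L' s))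
    (hmax : ∀ P : Ideal L', P.IsPrime → P.IsMaximal)
    (C : Subalgebra B L') [IsNoetherianRing C] (hint : ∀ c ∈ C, IsIntegral B c)
    (hfrac : ∀ y : L', ∃ s : B, s ≠ 0 ∧ algebraMap B L' s * y ∈ C) :
    IsNoetherianRing (integralClosure B L') := by
  classical
  haveI hL' : IsNoetherianRing L' := by
    refine (isNoetherianRing_iff_ideal_fg L').2 fun I => ?_
    have hI : I = (I.comap C.val.toRingHom).map C.val.toRingHom := by
      refine le_antisymm (fun y hy => ?_) Ideal.map_comap_le
      obtain ⟨s, hs, hsy⟩ := hfrac y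
      obtain ⟨v, hv⟩ := hunit s hs
      have h1 : C.val.toRingHom ⟨_, hsy⟩ ∈ (I.comap C.val.toRingHom).map C.val.toRingHom :=
        Ideal.mem_map_of_mem _ (show _ ∈ I from I.mul_mem_left _ hy)
      have h2 := Ideal.mul_mem_left _ (↑v⁻¹ : L') h1
      have h3 : (↑v⁻¹ : L') * C.val.toRingHom ⟨_, hsy⟩ = y := by
        show (↑v⁻¹ : L') * (algebraMap B L' s * y) = y
        rw [← hv, ← mul_assoc, Units.inv_mul, one_mul]
      rwa [h3] at h2
    rw [hI]
    exact Ideal.FG.map (IsNoetherian.noetherian (I.comap C.val.toRingHom)) _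
  haveI : Ring.KrullDimLE 0 L' := Ring.KrullDimLE.mk₀ hmax
  haveI : IsArtinianRing L' := isArtinianRing_iff_isNoetherianRing_krullDimLE_zero.2 ⟨hL', inferInstance⟩
  let ι := MaximalSpectrum L'
  haveI : Finite ι := inferInstance
  let g : ∀ m : ι, integralClosure B L' →+* L' ⧸ m.asIdeal := fun m =>
    (Ideal.Quotient.mk m.asIdeal).comp (integralClosure B L').val.toRingHom
  refine isNoetherianRing_of_finite_quotients (fun m : ι => RingHom.ker (g m)) (fun x hx => ?_) fun m => ?_
  · apply Subtype.ext
    have hmem : (x : L') ∈ nilradical L' := by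
      rw [nilradical_eq_sInf, Submodule.mem_sInf]
      intro P hP
      have := hx ⟨P, hmax P hP⟩
      exact Ideal.Quotient.eq_zero_iff_mem.1 this
    exact (nilradical_eq_zero L' ▸ hmem : (x : L') ∈ (0 : Ideal L'))
  haveI := m.isMaximal
  let M := L' ⧸ m.asIdeal
  letI : Field M := Ideal.Quotient.field _
  let π : C →+* M := (Ideal.Quotient.mk m.asIdeal).comp C.val.toRingHom
  let R0 : Subring M := π.range
  haveI : IsNoetherianRing R0 := isNoetherianRing_of_surjective C R0 π.rangeRestrict π.rangeRestrict_surjective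
  letI : Algebra B R0 := (π.rangeRestrict.comp (algebraMap B C)).toAlgebra
  have hBM : ∀ s : B, ((algebraMap B R0 s : R0) : M) = Ideal.Quotient.mk m.asIdeal (algebraMap B L' s) := fun _ => rfl
  haveI : Algebra.IsIntegral B R0 := ⟨fun r => by
    obtain ⟨⟨c, hc⟩, hcr⟩ := π.rangeRestrict_surjective r
    obtain ⟨p, hp, hpc⟩ := hint c hc
    refine ⟨p, hp, ?_⟩
    have h1 : Polynomial.eval₂ (algebraMap B C) ⟨c, hc⟩ p = 0 := by
      apply Subtype.ext
      rw [← Subalgebra.coe_val, ← Polynomial.aeval_def, ← Polynomial.aeval_algHom_apply]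
      exact hpc
    have h2 := congrArg π.rangeRestrict h1
    rw [Polynomial.hom_eval₂, map_zero, hcr] at h2
    exact h2⟩
  have hne : ∀ s : B, s ≠ 0 → Ideal.Quotient.mk m.asIdeal (algebraMap B L' s) ≠ 0 := fun s hs h =>
    (hunit s hs |>.map (Ideal.Quotient.mk m.asIdeal)).ne_zero h
  haveI : Ring.KrullDimLE 1 R0 := by
    refine Ring.krullDimLE_one_iff_of_isPrime_bot.2 fun P hP hP' => ?_
    have hcomap : P.comap (algebraMap B R0) ≠ ⊥ := fun h => hP (Ideal.eq_bot_of_comap_eq_bot h)
    haveI : (P.comap (algebraMap B R0)).IsPrime := inferInstance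
    exact Ideal.isMaximal_of_isIntegral_of_isMaximal_comap (R := B) P (Ring.DimensionLEOne.maximalOfPrime hcomap inferInstance)
  haveI : IsFractionRing R0 M := IsFractionRing.of_field R0 M fun z => by
    obtain ⟨y, rfl⟩ := Ideal.Quotient.mk_surjective z
    obtain ⟨s, hs, hsy⟩ := hfrac y
    refine ⟨π.rangeRestrict ⟨_, hsy⟩, algebraMap B R0 s, ?_⟩
    show Ideal.Quotient.mk m.asIdeal y = Ideal.Quotient.mk m.asIdeal (algebraMap B L' s * y) /
      Ideal.Quotient.mk m.asIdeal (algebraMap B L' s)
    rw [eq_div_iff (hne s hs), map_mul, mul_comm]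
  let N : Subalgebra R0 M :=
    { (g m).range.toSubsemiring with
      algebraMap_mem' := fun r => by
        obtain ⟨⟨c, hc⟩, rfl⟩ := π.rangeRestrict_surjective r
        exact ⟨⟨c, hint c hc⟩, rfl⟩ }
  haveI : IsNoetherianRing N := DomDVR.isNoetherianRing_of_subalgebra N
  let e : N ≃+* (g m).range :=
    { toFun := fun x => ⟨x.1, x.2⟩
      invFun := fun x => ⟨x.1, x.2⟩
      map_mul' := fun _ _ => rfl
      map_add' := fun _ _ => rfl }
  haveI : IsNoetherianRing (g m).range := isNoetherianRing_of_ringEquiv N e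
  exact isNoetherianRing_of_ringEquiv _ (RingHom.quotientKerEquivRange (g m)).symm

theorem main (A B K L : Type u) [CommRing A] [IsDomain A]
    [CommRing B] [IsDomain B] [Ring.DimensionLEOne B] [Algebra A B]
    (hinj : Function.Injective (algebraMap A B)) [Algebra.EssFiniteType A B]
    [Field K] [Field L] [Algebra A K] [IsFractionRing A K] [Algebra B L] [IsFractionRing B L]
    [Algebra K L] [Algebra A L] [IsScalarTower A K L] [IsScalarTower A B L]
    (K' : Type u) [Field K'] [Algebra K K'] [Algebra A K'] [IsScalarTower A K K'] [Algebra.IsAlgebraic K K']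
    (hA' : IsNoetherianRing (integralClosure A K'))
    (L' : Type u) [CommRing L'] [IsReduced L'] [Algebra K L'] [Algebra L L'] [Algebra K' L'] [Algebra B L']
    [IsScalarTower K L L'] [IsScalarTower K K' L'] [IsScalarTower B L L']
    (q : L ⊗[K] K' →ₐ[K] L') (hq : Function.Surjective q)
    (hqL : ∀ y : L, q (y ⊗ₜ 1) = algebraMap L L' y) (hqK : ∀ z : K', q (1 ⊗ₜ z) = algebraMap K' L' z) :
    IsNoetherianRing (integralClosure B L') := by
  classical
  letI : Algebra A L' := ((algebraMap K L').comp (algebraMap A K)).toAlgebra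
  haveI : IsScalarTower A K L' := .of_algebraMap_eq fun _ => rfl
  haveI : IsScalarTower A K' L' := .of_algebraMap_eq fun a => by
    rw [IsScalarTower.algebraMap_apply A K K', ← IsScalarTower.algebraMap_apply K K' L']
    rfl
  haveI : IsScalarTower A B L' := .of_algebraMap_eq fun a => by
    rw [IsScalarTower.algebraMap_apply B L L', ← IsScalarTower.algebraMap_apply A B L,
      IsScalarTower.algebraMap_apply A K L, ← IsScalarTower.algebraMap_apply K L L']
    rfl
  let A' := integralClosure A K'
  haveI := hA'
  haveI : IsNoetherianRing ((↥A') ⊗[A] B) := Algebra.EssFiniteType.isNoetherianRing A' _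
  let φ : (↥A') ⊗[A] B →ₐ[A] L' :=
    Algebra.TensorProduct.productMap ((IsScalarTower.toAlgHom A K' L').comp A'.val) (IsScalarTower.toAlgHom A B L')
  let C : Subalgebra B L' :=
    { φ.range.toSubsemiring with
      algebraMap_mem' := fun b => ⟨1 ⊗ₜ b, by simp [φ]⟩ }
  haveI : IsNoetherianRing C :=
    isNoetherianRing_of_surjective _ C (φ.toRingHom.codRestrict C fun w => ⟨w, rfl⟩) fun c => by
      obtain ⟨w, hw⟩ := c.2
      exact ⟨w, Subtype.ext hw⟩
  have hLint : ∀ y : L', IsIntegral L y := fun y => by
    obtain ⟨w, rfl⟩ := hq y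
    induction w with
    | zero => rw [map_zero]; exact isIntegral_zero
    | add a b ha hb => rw [map_add]; exact ha.add hb
    | tmul l z =>
      have h1 : q (l ⊗ₜ[K] z) = algebraMap L L' l * algebraMap K' L' z := by
        rw [← hqL, ← hqK, ← map_mul, Algebra.TensorProduct.tmul_mul_tmul, mul_one, one_mul]
      rw [h1]
      refine isIntegral_algebraMap.mul ?_
      have hz : IsIntegral K (algebraMap K' L' z) :=
        (Algebra.IsIntegral.isIntegral (R := K) z).map (IsScalarTower.toAlgHom K K' L')
      exact hz.tower_top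
  have hunit : ∀ s : B, s ≠ 0 → IsUnit (algebraMap B L' s) := fun s hs => by
    rw [IsScalarTower.algebraMap_apply B L L']
    exact (isUnit_iff_ne_zero.2 fun h => hs ((IsFractionRing.injective B L) (h.trans (map_zero _).symm))).map _
  refine isNoetherianRing_integralClosure hunit (fun P hP => ?_) C (fun c hc => ?_) fun y => ?_
  · haveI : Algebra.IsIntegral L L' := ⟨hLint⟩
    haveI : (P.comap (algebraMap L L')).IsMaximal :=
      (Ideal.eq_bot_or_top (P.comap (algebraMap L L'))).resolve_right (Ideal.IsPrime.comap _).ne_top ▸ Ideal.bot_isMaximal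
    exact Ideal.isMaximal_of_isIntegral_of_isMaximal_comap (R := L) P ‹_›
  · obtain ⟨w, rfl⟩ := hc
    show IsIntegral B (φ w)
    induction w with
    | zero => rw [map_zero]; exact isIntegral_zero
    | add a b ha hb => rw [map_add]; exact ha.add hb
    | tmul a' b =>
      rw [Algebra.TensorProduct.productMap_apply_tmul]
      refine IsIntegral.mul ?_ isIntegral_algebraMap
      have ha' : IsIntegral A ((IsScalarTower.toAlgHom A K' L') (a' : K')) := IsIntegral.map _ a'.2
      exact ha'.tower_top
  · obtain ⟨w, rfl⟩ := hq y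
    induction w with
    | zero => exact ⟨1, one_ne_zero, by rw [map_zero, mul_zero]; exact zero_mem C⟩
    | add a b ha hb =>
      obtain ⟨s, hs, hsa⟩ := ha
      obtain ⟨t, ht, htb⟩ := hb
      refine ⟨s * t, mul_ne_zero hs ht, ?_⟩
      rw [map_add, map_mul, mul_add]
      refine add_mem ?_ ?_
      · rw [mul_comm (algebraMap B L' s), mul_assoc]
        exact C.mul_mem (C.algebraMap_mem t) hsa
      · rw [mul_assoc]
        exact C.mul_mem (C.algebraMap_mem s) htb
    | tmul l z =>
      obtain ⟨b, s, hs, rfl⟩ := IsFractionRing.div_surjective B l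
      obtain ⟨a, ha⟩ := IsIntegral.exists_multiple_integral_of_isLocalization A⁰ (Rₘ := K) z
        (Algebra.IsIntegral.isIntegral _)
      have hs0 : s ≠ 0 := nonZeroDivisors.ne_zero hs
      have ha0 : algebraMap A B (a : A) ≠ 0 := fun h =>
        nonZeroDivisors.ne_zero a.2 (hinj (h.trans (map_zero _).symm))
      refine ⟨s * algebraMap A B (a : A), mul_ne_zero hs0 ha0, ⟨(⟨(a : A) • z, ha⟩ : A') ⊗ₜ b, ?_⟩⟩
      show φ (_ ⊗ₜ b) = _
      rw [Algebra.TensorProduct.productMap_apply_tmul]
      have h1 : q ((algebraMap B L b / algebraMap B L s) ⊗ₜ[K] z) =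
          algebraMap L L' (algebraMap B L b / algebraMap B L s) * algebraMap K' L' z := by
        rw [← hqL, ← hqK, ← map_mul, Algebra.TensorProduct.tmul_mul_tmul, mul_one, one_mul]
      rw [h1]
      have h2 : algebraMap B L' s * algebraMap L L' (algebraMap B L b / algebraMap B L s) = algebraMap B L' b := by
        rw [IsScalarTower.algebraMap_apply B L L' s, ← map_mul, mul_div_cancel₀,
          ← IsScalarTower.algebraMap_apply]
        exact fun h => hs0 ((IsFractionRing.injective B L) (h.trans (map_zero _).symm))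
      simp only [AlgHom.comp_apply, Subalgebra.coe_val, IsScalarTower.coe_toAlgHom', Algebra.smul_def, map_mul,
        ← IsScalarTower.algebraMap_apply]
      calc _ = algebraMap A L' (a : A) * algebraMap K' L' z * algebraMap B L' b := rfl
        _ = _ := by rw [← h2]; ring

end Groth.Agent.IntClNoethLib
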